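import Groth.Agent.DTen.K84.Data
import Groth.Agent.LCI.K310.CotBasis
import Mathlib.LinearAlgebra.TensorProduct.Tower

/-!
# Bases of base changed ideals generated by regular sequences
-/

set_option autoImplicit false

universe u

open IsLocalRing TensorProduct

namespace K84.ConBasis

open K84.Data

variable {A : Type u} [CommRing A] (p : Ideal A) [p.IsPrime]

theorem nonempty_basis {I : Ideal A} {l : List A} (h : GoodList p I l) (C : Type u) [CommRing C]
    [Algebra A C] [Algebra (Localization.AtPrime p) C] [IsScalarTower A (Localization.AtPrime p) C]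
    (hC : ∀ x ∈ I, algebraMap A C x = 0) :
    Nonempty (Module.Basis (Fin l.length) C (C ⊗[A] I)) := by
  let R := Localization.AtPrime p
  let I' : Ideal R := I.map (algebraMap A R)
  let x : Fin l.length → I := fun i => ⟨l.get i, h.1 _ (List.get_mem l i)⟩
  let x' : Fin l.length → I' := fun i => ⟨algebraMap A R (x i), Ideal.mem_map_of_mem _ (x i).2⟩
  have hl : List.ofFn (fun i => (x' i : R)) = l.map (algebraMap A R) := by
    conv_rhs => rw [← List.ofFn_get l, List.map_ofFn]
    rfl
  have hks : LCI.IsKoszulRegularSeq R (List.ofFn (fun i => (x' i : R))) := by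
    refine Groth.Agent.Flat2H.RegularLCI.isKoszulRegularSeq_of_isWeaklyRegular R _ ?_
    rw [hl, RingTheory.Sequence.isWeaklyRegular_map_algebraMap_iff]
    exact h.2.1
  have hxspan : Ideal.span (Set.range (fun i => (x i : A))) = Ideal.ofList l := by
    rw [Ideal.ofList]
    congr 1
    ext y
    rw [Set.mem_ofPred_eq, List.mem_iff_get]
    rfl
  have hspan : Ideal.span (Set.range (fun i => (x' i : R))) = I' := by
    have h2 := h.2.2
    rw [← hxspan, Ideal.map_span, ← Set.range_comp] at h2
    exact h2
  obtain ⟨b, hb⟩ := K310.CotBasis.exists_basis _ x' hks hspan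
  let lft : R ⧸ I' →+* C := Ideal.Quotient.lift I' (algebraMap R C) (by
    intro a ha
    have hle : I' ≤ RingHom.ker (algebraMap R C) := by
      rw [Ideal.map_le_iff_le_comap]
      intro y hy
      rw [Ideal.mem_comap, RingHom.mem_ker, ← IsScalarTower.algebraMap_apply]
      exact hC y hy
    exact hle ha)
  have hlft : ∀ a : A, lft (Ideal.Quotient.mk I' (algebraMap A R a)) = algebraMap A C a := by
    intro a
    change algebraMap R C (algebraMap A R a) = _
    rw [← IsScalarTower.algebraMap_apply]
  let inc : I → I' := fun y => ⟨algebraMap A R y, Ideal.mem_map_of_mem _ y.2⟩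
  let g : I →ₗ[A] (Fin l.length → C) :=
    { toFun := fun y i => lft (b.repr (I'.toCotangent (inc y)) i)
      map_add' := fun y z => by
        have : inc (y + z) = inc y + inc z := Subtype.ext (map_add _ _ _)
        funext i
        rw [this, map_add, map_add, Finsupp.add_apply, map_add]
        rfl
      map_smul' := fun a y => by
        have h1 : inc (a • y) = (algebraMap A R a) • inc y := Subtype.ext (map_mul _ _ _)
        have h2 : I'.toCotangent (inc (a • y)) =
            (Ideal.Quotient.mk I' (algebraMap A R a)) • I'.toCotangent (inc y) := by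
          rw [h1, map_smul]
          rfl
        funext i
        rw [h2, map_smul, Finsupp.smul_apply, smul_eq_mul, map_mul, hlft]
        exact (Algebra.smul_def a (lft (b.repr (I'.toCotangent (inc y)) i))).symm }
  let Ψ : C ⊗[A] I →ₗ[C] (Fin l.length → C) := g.liftBaseChange C
  let Φ : (Fin l.length → C) →ₗ[C] C ⊗[A] I :=
    Fintype.linearCombination C (fun i => (1 : C) ⊗ₜ[A] x i)
  have hΨ : ∀ i, Ψ ((1 : C) ⊗ₜ[A] x i) = Pi.single i 1 := by
    intro i
    rw [LinearMap.liftBaseChange_tmul, one_smul]
    funext j
    change lft (b.repr (I'.toCotangent (x' i)) j) = _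
    rw [← hb i, b.repr_self, Finsupp.single_apply, Pi.single_apply]
    by_cases hij : i = j
    · subst hij
      simp
    · rw [if_neg hij, if_neg (Ne.symm hij), map_zero]
  have h1 : ∀ v, Ψ (Φ v) = v := by
    intro v
    rw [Fintype.linearCombination_apply, map_sum]
    simp_rw [map_smul, hΨ]
    funext j
    simp [Finset.sum_apply, Pi.single_apply]
  have h2 : Function.Surjective Φ := by
    rw [← LinearMap.range_eq_top, Fintype.range_linearCombination, ← top_le_iff]
    rintro t -
    induction t with
    | zero => exact zero_mem _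
    | add a b ha hb => exact add_mem ha hb
    | tmul c y =>
      have hy : algebraMap A R y ∈ (Ideal.ofList l).map (algebraMap A R) := by
        rw [h.2.2]
        exact Ideal.mem_map_of_mem _ y.2
      rw [IsLocalization.algebraMap_mem_map_algebraMap_iff p.primeCompl] at hy
      obtain ⟨s, hs, hsy⟩ := hy
      rw [← hxspan, Ideal.mem_span_range_iff_exists_fun] at hsy
      obtain ⟨d, hd⟩ := hsy
      have hu : IsUnit (algebraMap A C s) := by
        rw [IsScalarTower.algebraMap_apply A R C]
        exact (IsLocalization.map_units R (⟨s, hs⟩ : p.primeCompl)).map _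
      obtain ⟨u, hu⟩ := hu
      have h3 : s • y = ∑ i, d i • x i := by
        ext
        rw [AddSubmonoidClass.coe_finsetSum]
        exact hd.symm
      have h4 : c ⊗ₜ[A] y = (c * ((u⁻¹ : Cˣ) : C)) ⊗ₜ[A] (s • y) := by
        rw [TensorProduct.tmul_smul, TensorProduct.smul_tmul', Algebra.smul_def, ← hu]
        congr 1
        rw [mul_comm, mul_assoc, Units.inv_mul, mul_one]
      rw [h4, h3, TensorProduct.tmul_sum]
      refine Submodule.sum_mem _ fun i _ => ?_
      rw [TensorProduct.tmul_smul, TensorProduct.smul_tmul']
      have h5 : (d i • (c * ((u⁻¹ : Cˣ) : C))) ⊗ₜ[A] x i =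
          (d i • (c * ((u⁻¹ : Cˣ) : C))) • ((1 : C) ⊗ₜ[A] x i) := by
        rw [TensorProduct.smul_tmul', smul_eq_mul, mul_one]
      rw [h5]
      exact Submodule.smul_mem _ _ (Submodule.subset_span ⟨i, rfl⟩)
  exact ⟨Module.Basis.ofEquivFun (LinearEquiv.ofBijective Φ
    ⟨(Function.LeftInverse.injective h1), h2⟩).symm⟩

end K84.ConBasis
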