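import Groth.Agent.DTen.K84.RegSel
import Groth.Agent.Ega4C.SmoothRegular
import Groth.Agent.Flat2H.RegularLCI

/-!
# Regular sequences for three ideals and their sum
-/

set_option autoImplicit false

universe u

open IsLocalRing

namespace K84.Data

open K84.RegSel

variable {A : Type u} [CommRing A] (p : Ideal A) [p.IsPrime]

/-- `l` is a sequence of elements of `I`, regular on `A_p` and generating `I_p`. -/
def GoodList (I : Ideal A) (l : List A) : Prop :=
  (∀ x ∈ l, x ∈ I) ∧ RingTheory.Sequence.IsWeaklyRegular (Localization.AtPrime p) l ∧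
    (Ideal.ofList l).map (algebraMap A (Localization.AtPrime p)) =
      I.map (algebraMap A (Localization.AtPrime p))

lemma map_le {I : Ideal A} (hI : I ≤ p) : I.map (algebraMap A (Localization.AtPrime p)) ≤
    maximalIdeal (Localization.AtPrime p) := by
  rw [← Localization.AtPrime.map_eq_maximalIdeal]
  exact Ideal.map_mono hI

/-- The classes of the elements of `I_p` are in the span of those of `I`. -/
lemma cls_mem_span {I : Ideal A} (hI : I ≤ p) {x : Localization.AtPrime p}
    (hx : x ∈ I.map (algebraMap A (Localization.AtPrime p))) :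
    cls x ∈ Submodule.span (ResidueField (Localization.AtPrime p))
      (Set.range (fun y : I => cls (algebraMap A (Localization.AtPrime p) y))) := by
  have hle := map_le p hI
  induction hx using Submodule.span_induction with
  | mem x hx =>
    obtain ⟨y, hy, rfl⟩ := hx
    exact Submodule.subset_span ⟨⟨y, hy⟩, rfl⟩
  | zero =>
    rw [(cls_eq_zero_iff (zero_mem _)).2 (zero_mem _)]
    exact zero_mem _
  | add x y hx hy h1 h2 =>
    rw [cls_add (hle hx) (hle hy)]
    exact add_mem h1 h2
  | smul a x hx h1 =>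
    rw [smul_eq_mul, cls_mul _ (hle hx)]
    exact Submodule.smul_mem _ _ h1

/-- The regularity of the quotient. -/
theorem isRegularLocalRing_quotient {I : Ideal A} (hI : I ≤ p) [IsRegularRing (A ⧸ I)] :
    IsRegularLocalRing (Localization.AtPrime p ⧸ I.map (algebraMap A (Localization.AtPrime p))) := by
  obtain ⟨q, hq, hqp⟩ : ∃ (q : Ideal (A ⧸ I)) (_ : q.IsPrime), q.comap (Ideal.Quotient.mk I) = p := by
    refine ⟨p.map (Ideal.Quotient.mk I), ?_, ?_⟩
    · exact Ideal.map_isPrime_of_surjective Ideal.Quotient.mk_surjective (by rwa [Ideal.mk_ker])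
    · rw [Ideal.comap_map_of_surjective' _ Ideal.Quotient.mk_surjective, Ideal.mk_ker]
      exact sup_eq_left.2 hI
  subst hqp
  have h := Groth.Agent.Flat2H.RegularLCI.isRegularLocalRing_quotient (Ideal.Quotient.mk I)
    Ideal.Quotient.mk_surjective q
  have e : RingHom.ker (Ideal.Quotient.mk I) = I := Ideal.mk_ker
  rwa [e] at h

/-- From independence to good lists. -/
theorem goodList_of_indep [IsRegularLocalRing (Localization.AtPrime p)] {I : Ideal A} (hI : I ≤ p)
    [IsRegularRing (A ⧸ I)] (l : List A) (hl : ∀ x ∈ l, x ∈ I)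
    (hind : LinearIndependent (ResidueField (Localization.AtPrime p))
      (fun i : Fin l.length => cls (algebraMap A (Localization.AtPrime p) (l.get i))))
    (hsp : ∀ y ∈ I, cls (algebraMap A (Localization.AtPrime p) y) ∈
      Submodule.span (ResidueField (Localization.AtPrime p))
      (Set.range (fun i : Fin l.length => cls (algebraMap A (Localization.AtPrime p) (l.get i))))) :
    GoodList p I l := by
  have := isRegularLocalRing_quotient p hI
  obtain ⟨h1, h2⟩ := sel (I.map (algebraMap A (Localization.AtPrime p)))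
    (fun i : Fin l.length => algebraMap A (Localization.AtPrime p) (l.get i))
    (fun i => Ideal.mem_map_of_mem _ (hl _ (List.get_mem l i))) hind (fun x hx => by
      refine Submodule.span_le.2 ?_ (cls_mem_span p hI hx)
      rintro _ ⟨y, rfl⟩
      exact hsp y y.2)
  have h3 : List.ofFn (fun i : Fin l.length => algebraMap A (Localization.AtPrime p) (l.get i)) =
      l.map (algebraMap A (Localization.AtPrime p)) := by
    conv_rhs => rw [← List.ofFn_get l, List.map_ofFn]
    rfl
  refine ⟨hl, ?_, ?_⟩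
  · rw [h3, RingTheory.Sequence.isWeaklyRegular_map_algebraMap_iff] at h1
    exact h1
  · rw [← h2, Ideal.ofList, Ideal.map_span]
    congr 1
    ext x
    simp only [Set.mem_image, Set.mem_ofPred_eq, Set.mem_range, List.mem_iff_get]
    constructor
    · rintro ⟨_, ⟨i, rfl⟩, rfl⟩
      exact ⟨i, rfl⟩
    · rintro ⟨i, rfl⟩
      exact ⟨_, ⟨i, rfl⟩, rfl⟩

/-- The case where the prime does not contain the ideal. -/
theorem exists_goodList_unit {I : Ideal A} (hI : ¬ I ≤ p) : ∃ s ∈ I, s ∉ p ∧ GoodList p I [s] := by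
  obtain ⟨s, hs, hsp⟩ := SetLike.not_le_iff_exists.1 hI
  have hu : IsUnit (algebraMap A (Localization.AtPrime p) s) :=
    IsLocalization.map_units (Localization.AtPrime p) (⟨s, hsp⟩ : p.primeCompl)
  have htop : ∀ I : Ideal A, s ∈ I → I.map (algebraMap A (Localization.AtPrime p)) = ⊤ := fun I hs =>
    Ideal.eq_top_of_isUnit_mem _ (Ideal.mem_map_of_mem _ hs) hu
  refine ⟨s, hs, hsp, ?_, ?_, ?_⟩
  · intro x hx
    rw [List.mem_singleton] at hx
    rwa [hx]
  · rw [RingTheory.Sequence.isWeaklyRegular_cons_iff]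
    refine ⟨?_, RingTheory.Sequence.IsWeaklyRegular.nil _ _⟩
    intro x y hxy
    have hxy' : algebraMap A (Localization.AtPrime p) s * x =
        algebraMap A (Localization.AtPrime p) s * y := by
      rw [← Algebra.smul_def, ← Algebra.smul_def]
      exact hxy
    exact hu.mul_left_cancel hxy'
  · rw [htop I hs, htop _ (Ideal.subset_span (by simp))]

/-- The general case -/
theorem exists_goodList [IsRegularLocalRing (Localization.AtPrime p)] (I : Ideal A)
    [IsRegularRing (A ⧸ I)] : ∃ l, GoodList p I l ∧ (I ≤ p →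
      ∀ y ∈ I, cls (algebraMap A (Localization.AtPrime p) y) ∈
      Submodule.span (ResidueField (Localization.AtPrime p))
      (cls ∘ algebraMap A (Localization.AtPrime p) '' {x | x ∈ l})) := by
  by_cases hI : I ≤ p
  · obtain ⟨n, a, h1, h2⟩ := exists_family (K := ResidueField (Localization.AtPrime p))
      (fun y : I => cls (algebraMap A (Localization.AtPrime p) y))
    let l : List A := List.ofFn (fun i => (a i : A))
    have hlen : l.length = n := List.length_ofFn
    have hget : (fun i : Fin l.length => cls (algebraMap A (Localization.AtPrime p) (l.get i))) =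
        ((fun y : I => cls (algebraMap A (Localization.AtPrime p) y)) ∘ a) ∘ Fin.cast hlen := by
      funext i
      simp only [l, List.get_eq_getElem, List.getElem_ofFn]
      rfl
    have hr : Set.range (fun i : Fin l.length => cls (algebraMap A (Localization.AtPrime p) (l.get i))) =
        Set.range ((fun y : I => cls (algebraMap A (Localization.AtPrime p) y)) ∘ a) := by
      rw [hget]
      exact (finCongr hlen).surjective.range_comp _
    have hsp : ∀ y ∈ I, cls (algebraMap A (Localization.AtPrime p) y) ∈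
      Submodule.span (ResidueField (Localization.AtPrime p))
      (Set.range (fun i : Fin l.length => cls (algebraMap A (Localization.AtPrime p) (l.get i)))) := by
      intro y hy
      rw [hr, h2]
      exact Submodule.subset_span ⟨⟨y, hy⟩, rfl⟩
    refine ⟨l, goodList_of_indep p hI l ?_ ?_ hsp, fun _ y hy => ?_⟩
    · intro x hx
      obtain ⟨i, rfl⟩ := (List.mem_ofFn).1 hx
      exact (a i).2
    · rw [hget]
      exact h1.comp _ (finCongr hlen).injective
    · refine Submodule.span_mono ?_ (hsp y hy)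
      rintro _ ⟨i, rfl⟩
      exact ⟨l.get i, List.get_mem l i, rfl⟩
  · obtain ⟨s, -, -, hs⟩ := exists_goodList_unit p hI
    exact ⟨[s], hs, fun h => absurd h hI⟩

/-- Good lists for three ideals and their sum. -/
theorem exists_data [IsRegularLocalRing (Localization.AtPrime p)] (J₁ J₂ J₃ J : Ideal A)
    (hJ : J = J₁ ⊔ J₂ ⊔ J₃) [IsRegularRing (A ⧸ J₁)] [IsRegularRing (A ⧸ J₂)] [IsRegularRing (A ⧸ J₃)]
    [IsRegularRing (A ⧸ J)] :
    ∃ l₁ l₂ l₃ w z : List A, GoodList p J₁ l₁ ∧ GoodList p J₂ l₂ ∧ GoodList p J₃ l₃ ∧ GoodList p J z ∧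
      (l₁ ++ (l₂ ++ l₃)).Perm (w ++ z) := by
  obtain ⟨l₁, h₁, k₁⟩ := exists_goodList p J₁
  obtain ⟨l₂, h₂, k₂⟩ := exists_goodList p J₂
  obtain ⟨l₃, h₃, k₃⟩ := exists_goodList p J₃
  have hle₁ : J₁ ≤ J := hJ ▸ le_sup_left.trans le_sup_left
  have hle₂ : J₂ ≤ J := hJ ▸ le_sup_right.trans le_sup_left
  have hle₃ : J₃ ≤ J := hJ ▸ le_sup_right
  have htr : ∀ {I : Ideal A} {s : A}, s ∈ I → s ∉ p → I ≤ J → GoodList p I [s] → GoodList p J [s] := by
    intro I s hs hsp hIJ h
    refine ⟨fun x hx => hIJ (h.1 x hx), h.2.1, ?_⟩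
    rw [h.2.2]
    have hu : IsUnit (algebraMap A (Localization.AtPrime p) s) :=
      IsLocalization.map_units (Localization.AtPrime p) (⟨s, hsp⟩ : p.primeCompl)
    rw [Ideal.eq_top_of_isUnit_mem _ (Ideal.mem_map_of_mem _ hs) hu,
      Ideal.eq_top_of_isUnit_mem _ (Ideal.mem_map_of_mem _ (hIJ hs)) hu]
  by_cases hp₁ : J₁ ≤ p
  swap
  · obtain ⟨s, hs, hsp, hg⟩ := exists_goodList_unit p hp₁
    exact ⟨[s], l₂, l₃, l₂ ++ l₃, [s], hg, h₂, h₃, htr hs hsp hle₁ hg, List.perm_append_comm⟩
  by_cases hp₂ : J₂ ≤ p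
  swap
  · obtain ⟨s, hs, hsp, hg⟩ := exists_goodList_unit p hp₂
    refine ⟨l₁, [s], l₃, l₁ ++ l₃, [s], h₁, hg, h₃, htr hs hsp hle₂ hg, ?_⟩
    rw [List.append_assoc]
    exact List.Perm.append_left _ List.perm_append_comm
  by_cases hp₃ : J₃ ≤ p
  swap
  · obtain ⟨s, hs, hsp, hg⟩ := exists_goodList_unit p hp₃
    refine ⟨l₁, l₂, [s], l₁ ++ l₂, [s], h₁, h₂, hg, htr hs hsp hle₃ hg, ?_⟩
    rw [List.append_assoc]
  have hp : J ≤ p := hJ ▸ sup_le (sup_le hp₁ hp₂) hp₃
  obtain ⟨w, z, e1, e2, e3⟩ := exists_split (K := ResidueField (Localization.AtPrime p))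
    (cls ∘ algebraMap A (Localization.AtPrime p)) (l₁ ++ (l₂ ++ l₃))
  have hmem : ∀ x ∈ l₁ ++ (l₂ ++ l₃), x ∈ J := by
    intro x hx
    rw [List.mem_append, List.mem_append] at hx
    rcases hx with hx | hx | hx
    · exact hle₁ (h₁.1 x hx)
    · exact hle₂ (h₂.1 x hx)
    · exact hle₃ (h₃.1 x hx)
  refine ⟨l₁, l₂, l₃, w, z, h₁, h₂, h₃, goodList_of_indep p hp z ?_ e2 ?_, e1⟩
  · intro x hx
    exact hmem x (e1.mem_iff.2 (List.mem_append_right _ hx))
  · set W := Submodule.span (ResidueField (Localization.AtPrime p))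
      (Set.range (fun i : Fin z.length => cls (algebraMap A (Localization.AtPrime p) (z.get i)))) with hW
    have hsub : ∀ {l : List A}, (∀ x ∈ l, x ∈ l₁ ++ (l₂ ++ l₃)) → Submodule.span
        (ResidueField (Localization.AtPrime p))
        (cls ∘ algebraMap A (Localization.AtPrime p) '' {x | x ∈ l}) ≤ W := by
      intro l hl
      rw [Submodule.span_le]
      rintro _ ⟨x, hx, rfl⟩
      exact e3 x (hl x hx)
    have hm : ∀ {x : A}, x ∈ p → algebraMap A (Localization.AtPrime p) x ∈
        maximalIdeal (Localization.AtPrime p) := fun hx =>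
      (IsLocalization.AtPrime.to_map_mem_maximal_iff (Localization.AtPrime p) p _).2 hx
    intro y hy
    rw [hJ] at hy
    obtain ⟨y', hy', y₃, hy₃, rfl⟩ := Submodule.mem_sup.1 hy
    obtain ⟨y₁, hy₁, y₂, hy₂, rfl⟩ := Submodule.mem_sup.1 hy'
    rw [map_add, map_add, cls_add (add_mem (hm (hp₁ hy₁)) (hm (hp₂ hy₂))) (hm (hp₃ hy₃)),
      cls_add (hm (hp₁ hy₁)) (hm (hp₂ hy₂))]
    refine add_mem (add_mem ?_ ?_) ?_
    · exact hsub (fun x hx => by simp [hx]) (k₁ hp₁ y₁ hy₁)
    · exact hsub (fun x hx => by simp [hx]) (k₂ hp₂ y₂ hy₂)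
    · exact hsub (fun x hx => by simp [hx]) (k₃ hp₃ y₃ hy₃)

end K84.Data
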