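import Groth.Agent.Dual.K173.ExtPow
import Mathlib.RingTheory.LocalRing.Module

/-!
# Exterior powers of kernels over local rings
-/

set_option autoImplicit false

universe u

open IsLocalRing TensorProduct

namespace K84.KerRank

section Ker

variable {C : Type*} [CommRing C] [IsLocalRing C] {K P Q : Type*} [AddCommGroup K] [Module C K]
  [AddCommGroup P] [Module C P] [AddCommGroup Q] [Module C Q]

/-- The kernel of a surjection of finite free modules over a local ring. -/
theorem free_of_exact (f : K →ₗ[C] P) (g : P →ₗ[C] Q) (hf : Function.Injective f)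
    (hg : Function.Surjective g) (hex : Function.Exact f g) {m n N : ℕ} (hN : N = m + n)
    (bP : Module.Basis (Fin N) C P) (bQ : Module.Basis (Fin n) C Q) :
    Module.Free C K ∧ Module.Finite C K ∧ Module.finrank C K = m := by
  have hPf : Module.Free C P := Module.Free.of_basis bP
  have hPF : Module.Finite C P := Module.Finite.of_basis bP
  have hQf : Module.Free C Q := Module.Free.of_basis bQ
  have hQF : Module.Finite C Q := Module.Finite.of_basis bQ
  obtain ⟨s, hs⟩ := Module.projective_lifting_property g LinearMap.id hg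
  have hs' : ∀ x, g (s x) = x := LinearMap.congr_fun hs
  have hmem : ∀ x : P, x - s (g x) ∈ LinearMap.range f := by
    intro x
    refine (hex _).1 ?_
    rw [map_sub, hs', sub_self]
  let e := LinearEquiv.ofInjective f hf
  let r : P →ₗ[C] K := e.symm.toLinearMap ∘ₗ
    ((LinearMap.id - s ∘ₗ g).codRestrict (LinearMap.range f) hmem)
  have hr : r ∘ₗ f = LinearMap.id := by
    ext x
    change e.symm _ = x
    rw [LinearEquiv.symm_apply_eq]
    ext
    change f x - s (g (f x)) = f x
    rw [(hex (f x)).2 ⟨x, rfl⟩, map_zero, sub_zero]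
  obtain ⟨E⟩ := K173.ExtPow.nonempty_prod f g r hr hg hex
  have hproj : Module.Projective C K := Module.Projective.of_split f r hr
  have hfin : Module.Finite C K := Module.Finite.of_surjective r (fun x => ⟨f x, LinearMap.congr_fun hr x⟩)
  have hfree : Module.Free C K := Module.free_of_flat_of_isLocalRing
  refine ⟨hfree, hfin, ?_⟩
  have h1 := E.finrank_eq
  rw [Module.finrank_prod, Module.finrank_eq_card_basis bP, Module.finrank_eq_card_basis bQ,
    Fintype.card_fin, Fintype.card_fin, hN] at h1
  omega

end Ker

/-- The base change of the exterior power of a kernel. -/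
theorem nonempty_ext {B C : Type*} [CommRing B] [CommRing C] [Algebra B C] [Module.Flat B C]
    [IsLocalRing C] {P Q : Type*} [AddCommGroup P] [Module B P] [AddCommGroup Q] [Module B Q]
    (g : P →ₗ[B] Q) (hg : Function.Surjective g) {m n N : ℕ} (hN : N = m + n)
    (bP : Module.Basis (Fin N) C (C ⊗[B] P)) (bQ : Module.Basis (Fin n) C (C ⊗[B] Q)) (q : ℕ) :
    Nonempty (C ⊗[B] ↥(⋀[B]^q ↥(LinearMap.ker g)) ≃ₗ[C] (Fin (m.choose q) → C)) := by
  obtain ⟨h1, h2, h3⟩ := free_of_exact ((LinearMap.ker g).subtype.baseChange C) (g.baseChange C)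
    (Module.Flat.lTensor_preserves_injective_linearMap (M := C) _ (LinearMap.ker g).injective_subtype)
    (LinearMap.lTensor_surjective C hg)
    (lTensor_exact C (LinearMap.exact_subtype_ker_map g) hg) hN bP bQ
  have e1 := K173.ExtPow.baseChangeEquiv (TensorProduct.isBaseChange B (LinearMap.ker g) C) q
  have e2 : ↥(⋀[C]^q (C ⊗[B] ↥(LinearMap.ker g))) ≃ₗ[C] (Fin (m.choose q) → C) := by
    refine LinearEquiv.ofFinrankEq _ _ ?_
    rw [exteriorPower.finrank_eq, h3, Module.finrank_fintype_fun_eq_card, Fintype.card_fin]
  exact ⟨e1.trans e2⟩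

end K84.KerRank
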