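import Groth.Agent.Koszul.K872.TensCone
import Groth.Agent.Koszul.K872.NullSum
import Groth.Agent.Flat2H.KoszulReg
import Groth.Agent.DTen.K786.TorRes
import Groth.Agent.Sga4h.HomCxMono
import Mathlib.Algebra.Category.ModuleCat.Monoidal.Closed
import Mathlib.RingTheory.Flat.CategoryTheory

/-!
# Koszul complexes and tensor products of complexes of modules

* `nonempty_kos_tensor` : `kos l K ⊗ E ≅ kos l (K ⊗ E)`.
* `nonempty_Q_tensor` : `- ⊗ Z` respects isomorphisms in `D(A)` for `Z` K-flat.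
* `nonempty_Q_triple` : `N[0] ⊗ (P₁ ⊗ (P₂ ⊗ P₃))` is, in `D(A)`, the Koszul complex on `N` of the
  concatenation of sequences `lᵢ` regular on the flat module `N` with `N/(lᵢ)N ≅ N ⊗ Mᵢ`, when
  `Pᵢ → Mᵢ[0]` are K-flat resolutions.
-/

set_option autoImplicit false

universe u

open CategoryTheory CategoryTheory.Limits MonoidalCategory

attribute [local instance] HasDerivedCategory.standard

namespace K84.KosTen

open DerivedCategory K786.Good K786.TorRes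
open Groth.Agent.Flat2H.KoszulBasic Groth.Agent.Flat2H.KoszulReg

variable {A : Type u} [CommRing A]

/-- `kos l K ⊗ E ≅ kos l (K ⊗ E)`. -/
theorem nonempty_kos_tensor (l : List A) (K E : DRing.Cx A) :
    Nonempty ((kos l K ⊗ E : DRing.Cx A) ≅ kos l (K ⊗ E : DRing.Cx A)) := by
  induction l with
  | nil => exact ⟨Iso.refl _⟩
  | cons a l ih =>
    obtain ⟨e⟩ := ih
    refine ⟨K872.TensCone.coneIso (a • 𝟙 (kos l K)) E ≪≫ eqToIso ?_ ≪≫ cone1Iso a e⟩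
    rw [K872.TensCone.smul_whiskerRight]

/-- `- ⊗ Z` respects isomorphisms in the derived category if `Z` is K-flat. -/
theorem nonempty_Q_tensor {X Y : DRing.Cx A} {Z : DRing.Cx A} (hZ : DRing.IsKFlat A Z)
    (h : Nonempty (Q.obj X ≅ Q.obj Y)) :
    Nonempty (Q.obj (X ⊗ Z : DRing.Cx A) ≅ Q.obj (Y ⊗ Z : DRing.Cx A)) := by
  obtain ⟨e⟩ := h
  obtain ⟨W, s, hs, g, hg⟩ := DerivedCategory.right_fac e.hom
  have hg' : IsIso (DerivedCategory.Q.map g) := by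
    have : DerivedCategory.Q.map g = DerivedCategory.Q.map s ≫ e.hom := by
      rw [hg, IsIso.hom_inv_id_assoc]
    rw [this]
    infer_instance
  rw [DerivedCategory.isIso_Q_map_iff_quasiIso] at hs hg'
  have h1 := quasiIso_whiskerRight_of_isKFlat hZ s
  have h2 := quasiIso_whiskerRight_of_isKFlat hZ g
  exact ⟨(asIso (Q.map (s ▷ Z))).symm ≪≫ asIso (Q.map (g ▷ Z))⟩

/-- The tensor product of K-flat complexes is K-flat. -/
theorem isKFlat_tensor {K L : DRing.Cx A} (hK : DRing.IsKFlat A K) (hL : DRing.IsKFlat A L) :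
    DRing.IsKFlat A (K ⊗ L : DRing.Cx A) := by
  rw [isKFlat_iff] at hK hL ⊢
  intro M hM n
  have h := hL _ (hK _ hM) n
  exact h.of_iso (α_ M K L)

/-- A flat module in degree `0` is K-flat. -/
theorem isKFlat_sgl (N : ModuleCat.{u} A) [Module.Flat A N] : DRing.IsKFlat A (sgl N) := by
  refine isKFlat_of_vanishesAbove _ (fun i => ?_) (b := 0) (fun i hi => isZero_sgl_X N i (Or.inr hi))
  by_cases hi : i = 0
  · subst hi
    exact Module.Flat.of_linearEquiv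
      (HomologicalComplex.singleObjXSelf (ComplexShape.up ℤ) 0 N).toLinearEquiv
  · have := ModuleCat.subsingleton_of_isZero (isZero_sgl_X N i (by omega))
    infer_instance

/-- `N[0] ⊗ M[0] ≅ (N ⊗ M)[0]`. -/
noncomputable def sglTensorIso (N M : ModuleCat.{u} A) :
    (sgl N ⊗ sgl M : DRing.Cx A) ≅ sgl (N ⊗ M : ModuleCat.{u} A) :=
  ((Groth.Agent.Sga4h.HomCx.tensorSingleIso (curriedTensor (ModuleCat.{u} A)) N).app (sgl M)).symm ≪≫
    (HomologicalComplex.singleMapHomologicalComplex (tensorLeft N) (ComplexShape.up ℤ) 0).app M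

/-- `H^i (N[0] ⊗ T) ≅ N ⊗ H^i(T)` for `N` flat. -/
theorem nonempty_homology_sgl_tensor (N : ModuleCat.{u} A) [Module.Flat A N] (T : DRing.Cx A) (i : ℤ) :
    Nonempty ((sgl N ⊗ T : DRing.Cx A).homology i ≅ (N ⊗ T.homology i : ModuleCat.{u} A)) := by
  have hf : PreservesFiniteLimits (tensorLeft N) :=
    (Module.Flat.iff_preservesFiniteLimits_tensorLeft N).1 inferInstance
  have hc : PreservesFiniteColimits (tensorLeft N) := inferInstance
  have hh : (tensorLeft N).PreservesHomology := inferInstance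
  let e1 : (sgl N ⊗ T : DRing.Cx A) ≅ ((tensorLeft N).mapHomologicalComplex (ComplexShape.up ℤ)).obj T :=
    ((Groth.Agent.Sga4h.HomCx.tensorSingleIso (curriedTensor (ModuleCat.{u} A)) N).app T).symm
  exact ⟨(HomologicalComplex.homologyFunctor _ _ i).mapIso e1 ≪≫
    (T.sc i).mapHomologyIso (tensorLeft N)⟩

/-- The hypotheses on a sequence `l`, a flat module `N`, and a K-flat resolution `P` of `M`: `l` is Koszul
regular on `N`, and `N/(l)N ≅ N ⊗ M`. -/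
theorem nonempty_Q_sgl_tensor {N M : ModuleCat.{u} A} [Module.Flat A N] {l : List A} (hl : KReg l N)
    (e : Nonempty ((N ⧸ (Ideal.ofList l • ⊤ : Submodule A N)) ≃ₗ[A] (TensorProduct A N M)))
    {P : DRing.Cx A} (p : P ⟶ sgl M) (hp : QuasiIso p) :
    Nonempty (Q.obj (sgl N ⊗ P : DRing.Cx A) ≅ Q.obj (kos l (sgl N))) := by
  obtain ⟨e⟩ := e
  have h1 : QuasiIso (sgl N ◁ p) := by
    have := quasiIso_whiskerRight_of_isKFlat (isKFlat_sgl N) p
    have e : sgl N ◁ p = (Groth.Agent.LoccohB.LTen.swapIso P (sgl N)).inv ≫ (p ▷ sgl N) ≫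
        (Groth.Agent.LoccohB.LTen.swapIso (sgl M) (sgl N)).hom := by
      rw [Iso.eq_inv_comp]
      exact (Groth.Agent.LoccohB.LTen.swap_naturality p (sgl N)).symm
    rw [e]
    infer_instance
  obtain ⟨e2⟩ := nonempty_Q_kos_iso_of_kReg hl
  let e3 : ModuleCat.of A (N ⧸ (Ideal.ofList l • ⊤ : Submodule A N)) ≅ (N ⊗ M : ModuleCat.{u} A) :=
    e.toModuleIso
  exact ⟨asIso (Q.map (sgl N ◁ p)) ≪≫ Q.mapIso (sglTensorIso N M) ≪≫
    (Q.mapIso ((CochainComplex.singleFunctor (ModuleCat.{u} A) 0).mapIso e3)).symm ≪≫ e2.symm⟩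

/-- The inductive step. -/
theorem nonempty_Q_step {N M : ModuleCat.{u} A} [Module.Flat A N] {l : List A} (hl : KReg l N)
    (e : Nonempty ((N ⧸ (Ideal.ofList l • ⊤ : Submodule A N)) ≃ₗ[A] (TensorProduct A N M)))
    {P : DRing.Cx A} (p : P ⟶ sgl M) (hp : QuasiIso p) {Z : DRing.Cx A} (hZ : DRing.IsKFlat A Z)
    {m : List A} (h : Nonempty (Q.obj (sgl N ⊗ Z : DRing.Cx A) ≅ Q.obj (kos m (sgl N)))) :
    Nonempty (Q.obj (sgl N ⊗ (P ⊗ Z) : DRing.Cx A) ≅ Q.obj (kos (l ++ m) (sgl N))) := by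
  obtain ⟨e1⟩ := nonempty_Q_tensor hZ (nonempty_Q_sgl_tensor hl e p hp)
  obtain ⟨e2⟩ := nonempty_kos_tensor l (sgl N) Z
  obtain ⟨e3⟩ := nonempty_Q_kos_iso l h
  rw [kos_append]
  exact ⟨Q.mapIso (α_ (sgl N) P Z).symm ≪≫ e1 ≪≫ Q.mapIso e2 ≪≫ e3⟩

/-- Three factors. -/
theorem nonempty_Q_triple {N M₁ M₂ M₃ : ModuleCat.{u} A} [Module.Flat A N] {l₁ l₂ l₃ : List A}
    (hl₁ : KReg l₁ N) (hl₂ : KReg l₂ N) (hl₃ : KReg l₃ N)
    (e₁ : Nonempty ((N ⧸ (Ideal.ofList l₁ • ⊤ : Submodule A N)) ≃ₗ[A] (TensorProduct A N M₁)))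
    (e₂ : Nonempty ((N ⧸ (Ideal.ofList l₂ • ⊤ : Submodule A N)) ≃ₗ[A] (TensorProduct A N M₂)))
    (e₃ : Nonempty ((N ⧸ (Ideal.ofList l₃ • ⊤ : Submodule A N)) ≃ₗ[A] (TensorProduct A N M₃)))
    {P₁ P₂ P₃ : DRing.Cx A} (p₁ : P₁ ⟶ sgl M₁) (hp₁ : QuasiIso p₁) (p₂ : P₂ ⟶ sgl M₂) (hp₂ : QuasiIso p₂)
    (p₃ : P₃ ⟶ sgl M₃) (hp₃ : QuasiIso p₃) (h₂ : DRing.IsKFlat A P₂) (h₃ : DRing.IsKFlat A P₃) :
    Nonempty (Q.obj (sgl N ⊗ (P₁ ⊗ (P₂ ⊗ P₃)) : DRing.Cx A) ≅ Q.obj (kos (l₁ ++ (l₂ ++ l₃)) (sgl N))) :=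
  nonempty_Q_step hl₁ e₁ p₁ hp₁ (isKFlat_tensor h₂ h₃)
    (nonempty_Q_step hl₂ e₂ p₂ hp₂ h₃ (nonempty_Q_sgl_tensor hl₃ e₃ p₃ hp₃))

/-- An element acting by zero on `M` is null-homotopic on `M[0]`. -/
theorem nullH_sgl {M : ModuleCat.{u} A} {y : A} (hy : ∀ x : M, y • x = 0) : NullH (sgl M) y := by
  refine ⟨0, ?_⟩
  rw [CochainComplex.HomComplex.δ_zero, ← CochainComplex.HomComplex.Cochain.ofHom_zero (sgl M) (sgl M)]
  have h : y • 𝟙 M = 0 := by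
    ext x
    exact hy x
  have h2 : y • 𝟙 (sgl M) = 0 := by
    have := congrArg (CochainComplex.singleFunctor (ModuleCat.{u} A) 0).map h
    rwa [Functor.map_smul, CategoryTheory.Functor.map_id, Functor.map_zero] at this
  rw [← h2]
  ext n
  simp

/-- The Koszul homology of a sequence acting by zero. -/
theorem nonempty_homology_kos_of_zero (w : List A) (M : ModuleCat.{u} A) (hw : ∀ y ∈ w, ∀ x : M, y • x = 0)
    (q : ℕ) : Nonempty (((kos w (sgl M)).homology (-(q : ℤ)) : Type u) ≃ₗ[A]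
      (Fin (w.length.choose q) → M)) := by
  obtain ⟨e⟩ := K872.NullSum.nonempty_kos w (sgl M) (fun y hy => nullH_sgl (hw y hy)) (-(q : ℤ))
  let H : ℤ → Type u := fun i => (sgl M).homology i
  have hH : ∀ i : ℤ, i ≠ 0 → Subsingleton (H i) := fun i hi =>
    ModuleCat.subsingleton_of_isZero (ShortComplex.isZero_homology_of_isZero_X₂ _
      (isZero_sgl_X M i (by omega)))
  let f : ((j : ℕ) → Fin (w.length.choose j) → H (-(q : ℤ) + j)) →ₗ[A]
      (Fin (w.length.choose q) → H (-(q : ℤ) + q)) := LinearMap.proj q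
  have hf : Function.Bijective f := by
    constructor
    · intro a b hab
      funext j
      by_cases hj : j = q
      · subst hj
        exact hab
      · have := hH (-(q : ℤ) + j) (by omega)
        exact Subsingleton.elim _ _
    · intro a
      refine ⟨fun j => if hj : j = q then hj ▸ a else 0, ?_⟩
      change (if hj : q = q then hj ▸ a else 0) = a
      rw [dif_pos rfl]
  let e0 : H 0 ≃ₗ[A] M := (HomologicalComplex.singleObjHomologySelfIso _ 0 M).toLinearEquiv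
  let e1 : H (-(q : ℤ) + q) ≃ₗ[A] H 0 := K872.NullSum.degCast H (by omega)
  exact ⟨(e.trans (LinearEquiv.ofBijective f hf)).trans (LinearEquiv.piCongrRight fun _ => e1.trans e0)⟩

/-- The homology of `N[0] ⊗ (P₁ ⊗ (P₂ ⊗ P₃))`. -/
theorem nonempty_homology_triple {N M₁ M₂ M₃ : ModuleCat.{u} A} [Module.Flat A N] {l₁ l₂ l₃ : List A}
    (hl₁ : KReg l₁ N) (hl₂ : KReg l₂ N) (hl₃ : KReg l₃ N)
    (e₁ : Nonempty ((N ⧸ (Ideal.ofList l₁ • ⊤ : Submodule A N)) ≃ₗ[A] (TensorProduct A N M₁)))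
    (e₂ : Nonempty ((N ⧸ (Ideal.ofList l₂ • ⊤ : Submodule A N)) ≃ₗ[A] (TensorProduct A N M₂)))
    (e₃ : Nonempty ((N ⧸ (Ideal.ofList l₃ • ⊤ : Submodule A N)) ≃ₗ[A] (TensorProduct A N M₃)))
    {P₁ P₂ P₃ : DRing.Cx A} (p₁ : P₁ ⟶ sgl M₁) (hp₁ : QuasiIso p₁) (p₂ : P₂ ⟶ sgl M₂) (hp₂ : QuasiIso p₂)
    (p₃ : P₃ ⟶ sgl M₃) (hp₃ : QuasiIso p₃) (h₂ : DRing.IsKFlat A P₂) (h₃ : DRing.IsKFlat A P₃)
    {w z : List A} (hperm : (l₁ ++ (l₂ ++ l₃)).Perm (w ++ z)) (hz : KReg z N)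
    (hw : ∀ y ∈ w, ∀ x : N, y • x ∈ (Ideal.ofList z • ⊤ : Submodule A N)) (q : ℕ) :
    Nonempty ((TensorProduct A N ((P₁ ⊗ (P₂ ⊗ P₃) : DRing.Cx A).homology (-(q : ℤ)))) ≃ₗ[A]
      (Fin (w.length.choose q) → (N ⧸ (Ideal.ofList z • ⊤ : Submodule A N)))) := by
  obtain ⟨e1⟩ := nonempty_homology_sgl_tensor N (P₁ ⊗ (P₂ ⊗ P₃) : DRing.Cx A) (-(q : ℤ))
  obtain ⟨e2⟩ := nonempty_homology_iso_of_Q_iso
    (nonempty_Q_triple hl₁ hl₂ hl₃ e₁ e₂ e₃ p₁ hp₁ p₂ hp₂ p₃ hp₃ h₂ h₃) (-(q : ℤ))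
  obtain ⟨e3⟩ := nonempty_kosIso_of_perm hperm (sgl N)
  obtain ⟨e4⟩ := nonempty_homology_append_iso (l := w) hz (-(q : ℤ))
  obtain ⟨e5⟩ := nonempty_homology_kos_of_zero w
    (ModuleCat.of A (N ⧸ (Ideal.ofList z • ⊤ : Submodule A N))) (by
      intro y hy x
      obtain ⟨x, rfl⟩ := Submodule.Quotient.mk_surjective _ x
      change Submodule.Quotient.mk (y • x) = 0
      rw [Submodule.Quotient.mk_eq_zero]
      exact hw y hy x) q
  let e6 := e1.symm ≪≫ e2 ≪≫ (HomologicalComplex.homologyFunctor _ _ (-(q : ℤ))).mapIso e3 ≪≫ e4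
  exact ⟨e6.toLinearEquiv.trans e5⟩

end K84.KosTen
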