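import Groth.Agent.DTen.K84.Tor3
import Groth.Agent.DTen.K84.Data
import Mathlib.LinearAlgebra.TensorProduct.Quotient

/-!
# The localization of the triple `Tor`
-/

set_option autoImplicit false

universe u

open CategoryTheory CategoryTheory.Limits MonoidalCategory DTen TensorProduct

attribute [local instance] HasDerivedCategory.standard

namespace K84.Lhs

open K84.Data
open Groth.Agent.Flat2H.KoszulBasic Groth.Agent.Flat2H.KoszulReg

variable {A : Type u} [CommRing A] (p : Ideal A) [p.IsPrime]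

lemma smul_top_eq {I : Ideal A} {l : List A} (h : GoodList p I l) :
    (Ideal.ofList l • ⊤ : Submodule A (Localization.AtPrime p)) =
      (I • ⊤ : Submodule A (Localization.AtPrime p)) := by
  rw [Ideal.smul_top_eq_map, Ideal.smul_top_eq_map, h.2.2]

theorem nonempty_quot {I : Ideal A} {l : List A} (h : GoodList p I l) :
    Nonempty ((Localization.AtPrime p ⧸ (Ideal.ofList l • ⊤ : Submodule A (Localization.AtPrime p))) ≃ₗ[A]
      ((Localization.AtPrime p) ⊗[A] (A ⧸ I))) :=
  ⟨(Submodule.quotEquivOfEq _ _ (smul_top_eq p h)).trans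
    (TensorProduct.tensorQuotEquivQuotSMul (Localization.AtPrime p) I).symm⟩

theorem nonempty_quot' {I : Ideal A} {l : List A} (h : GoodList p I l) :
    Nonempty ((Localization.AtPrime p ⧸ (Ideal.ofList l • ⊤ : Submodule A (Localization.AtPrime p))) ≃ₗ[A]
      (Localization.AtPrime p ⧸ I.map (algebraMap A (Localization.AtPrime p)))) := by
  have h1 : (Ideal.ofList l • ⊤ : Submodule A (Localization.AtPrime p)) =
      (I.map (algebraMap A (Localization.AtPrime p))).restrictScalars A := by
    rw [smul_top_eq p h, Ideal.smul_top_eq_map]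
  exact ⟨(Submodule.quotEquivOfEq _ _ h1).trans (Submodule.Quotient.restrictScalarsEquiv A _)⟩

/-- The localization of the triple Tor. -/
theorem nonempty_lhs [HasLTen₃ A] (J₁ J₂ J₃ J : Ideal A) (hJ : J = J₁ ⊔ J₂ ⊔ J₃)
    {l₁ l₂ l₃ w z : List A} (h₁ : GoodList p J₁ l₁) (h₂ : GoodList p J₂ l₂) (h₃ : GoodList p J₃ l₃)
    (h : GoodList p J z) (hperm : (l₁ ++ (l₂ ++ l₃)).Perm (w ++ z)) (q : ℕ) :
    Nonempty (LocalizedModule p.primeCompl
      (Dual.HD A ((DTen.LTen₃ A).obj (Dual.inD A (A ⧸ J₁), (Dual.inD A (A ⧸ J₂), Dual.inD A (A ⧸ J₃))))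
        (-(q : ℤ))) ≃ₗ[A]
      (Fin (w.length.choose q) →
        (Localization.AtPrime p ⧸ J.map (algebraMap A (Localization.AtPrime p))))) := by
  have hflat : Module.Flat A (Localization.AtPrime p) := IsLocalization.flat _ p.primeCompl
  have hflat' : Module.Flat A (ModuleCat.of A (Localization.AtPrime p)) := hflat
  have hle₁ : J₁ ≤ J := hJ ▸ le_sup_left.trans le_sup_left
  have hle₂ : J₂ ≤ J := hJ ▸ le_sup_right.trans le_sup_left
  have hle₃ : J₃ ≤ J := hJ ▸ le_sup_right
  have hw : ∀ y ∈ w, y ∈ J := by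
    intro y hy
    have hy' := hperm.mem_iff.2 (List.mem_append_left z hy)
    rw [List.mem_append, List.mem_append] at hy'
    rcases hy' with hx | hx | hx
    · exact hle₁ (h₁.1 y hx)
    · exact hle₂ (h₂.1 y hx)
    · exact hle₃ (h₃.1 y hx)
  obtain ⟨e⟩ := K84.Tor3.nonempty_tensor_HD (ModuleCat.of A (Localization.AtPrime p))
    (ModuleCat.of A (A ⧸ J₁)) (ModuleCat.of A (A ⧸ J₂)) (ModuleCat.of A (A ⧸ J₃))
    (kReg_of_isWeaklyRegular h₁.2.1) (kReg_of_isWeaklyRegular h₂.2.1) (kReg_of_isWeaklyRegular h₃.2.1)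
    (nonempty_quot p h₁) (nonempty_quot p h₂) (nonempty_quot p h₃) hperm
    (kReg_of_isWeaklyRegular h.2.1) (by
      intro y hy x
      change y • (x : Localization.AtPrime p) ∈
        (Ideal.ofList z • ⊤ : Submodule A (Localization.AtPrime p))
      rw [smul_top_eq p h]
      exact Submodule.smul_mem_smul (hw y hy) trivial) q
  obtain ⟨e'⟩ := nonempty_quot' p h
  exact ⟨((LocalizedModule.equivTensorProduct p.primeCompl _).restrictScalars A).trans
    (e.trans (LinearEquiv.piCongrRight fun _ => e'))⟩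

end K84.Lhs
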