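import Groth.Agent.CAlg.K69.RegPar
import Mathlib.RingTheory.Nakayama
import Mathlib.LinearAlgebra.FiniteDimensional.Lemmas
import Mathlib.LinearAlgebra.Dimension.OrzechProperty

/-!
# Selecting regular sequences generating an ideal with regular quotient

* `sel`: in a regular local ring `R`, a family of elements of an ideal `I` with `R/I` regular whose
  classes form a basis of the image of `I` in `𝔪/𝔪²` is a regular sequence generating `I`.
* `exists_family`: such families may be chosen in any generating set.
* `exists_split`: thinning out a list.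
-/

set_option autoImplicit false

open IsLocalRing

namespace K84.RegSel

section Cls

variable {R : Type*} [CommRing R] [IsLocalRing R]

open Classical in
/-- class in the cotangent space (zero outside the maximal ideal) -/
noncomputable def cls (x : R) : CotangentSpace R :=
  if h : x ∈ maximalIdeal R then (maximalIdeal R).toCotangent ⟨x, h⟩ else 0

lemma cls_of_mem {x : R} (h : x ∈ maximalIdeal R) : cls x = (maximalIdeal R).toCotangent ⟨x, h⟩ :=
  dif_pos h

lemma residue_smul (a : R) (v : CotangentSpace R) : residue R a • v = a • v := rfl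

lemma cls_eq_zero_iff {x : R} (h : x ∈ maximalIdeal R) : cls x = 0 ↔ x ∈ maximalIdeal R ^ 2 := by
  rw [cls_of_mem h, Ideal.toCotangent_eq_zero]

lemma cls_sum {ι : Type*} (s : Finset ι) (c f : ι → R) (hf : ∀ i, f i ∈ maximalIdeal R) :
    cls (∑ i ∈ s, c i * f i) = ∑ i ∈ s, residue R (c i) • cls (f i) := by
  have h : ∑ i ∈ s, c i * f i ∈ maximalIdeal R :=
    Ideal.sum_mem _ fun i _ => Ideal.mul_mem_left _ _ (hf i)
  have h2 : (⟨∑ i ∈ s, c i * f i, h⟩ : maximalIdeal R) = ∑ i ∈ s, c i • ⟨f i, hf i⟩ := by
    ext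
    simp [AddSubmonoidClass.coe_finsetSum]
  rw [cls_of_mem h, h2, map_sum]
  refine Finset.sum_congr rfl fun i _ => ?_
  rw [map_smul, cls_of_mem (hf i), residue_smul]

lemma cls_mul (a : R) {x : R} (hx : x ∈ maximalIdeal R) : cls (a * x) = residue R a • cls x := by
  rw [cls_of_mem hx, cls_of_mem (Ideal.mul_mem_left _ a hx), residue_smul, ← map_smul]
  rfl

lemma cls_sub {x y : R} (hx : x ∈ maximalIdeal R) (hy : y ∈ maximalIdeal R) :
    cls (x - y) = cls x - cls y := by
  rw [cls_of_mem hx, cls_of_mem hy, cls_of_mem (sub_mem hx hy), ← map_sub]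
  rfl

lemma cls_add {x y : R} (hx : x ∈ maximalIdeal R) (hy : y ∈ maximalIdeal R) :
    cls (x + y) = cls x + cls y := by
  rw [cls_of_mem hx, cls_of_mem hy, cls_of_mem (add_mem hx hy), ← map_add]
  rfl

lemma coeff_mem {ι : Type*} [Fintype ι] {f : ι → R} (hf : ∀ i, f i ∈ maximalIdeal R)
    (hind : LinearIndependent (ResidueField R) (cls ∘ f)) (c : ι → R)
    (hc : (∑ i, c i * f i) ∈ maximalIdeal R ^ 2) (i : ι) : c i ∈ maximalIdeal R := by
  have h1 : ∑ i, residue R (c i) • cls (f i) = 0 := by
    rw [← cls_sum _ _ _ hf, cls_eq_zero_iff (Ideal.sum_mem _ fun i _ => Ideal.mul_mem_left _ _ (hf i))]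
    exact hc
  exact (residue_eq_zero_iff _).1 (Fintype.linearIndependent_iff.1 hind _ h1 i)

/-- A regular system of parameters is linearly independent in the cotangent space. -/
lemma linearIndependent_of_span_eq [IsNoetherianRing R] {d : ℕ} (x : Fin d → R)
    (hx : Ideal.span (Set.range x) = maximalIdeal R)
    (hd : Module.finrank (ResidueField R) (CotangentSpace R) = d) :
    LinearIndependent (ResidueField R) (cls ∘ x) := by
  have hm : ∀ i, x i ∈ maximalIdeal R := fun i => hx ▸ Ideal.subset_span ⟨i, rfl⟩
  refine linearIndependent_of_top_le_span_of_card_eq_finrank ?_ (by rw [Fintype.card_fin, hd])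
  have h1 : Set.range (cls ∘ x) = (maximalIdeal R).toCotangent '' Set.range (fun i => ⟨x i, hm i⟩) := by
    rw [← Set.range_comp]
    congr 1
    funext i
    exact cls_of_mem (hm i)
  rw [h1, top_le_iff]
  refine CotangentSpace.span_image_eq_top_iff.2 ?_
  apply Submodule.map_injective_of_injective (maximalIdeal R).injective_subtype
  rw [Submodule.map_span, ← Set.range_comp, Submodule.map_top, Submodule.range_subtype]
  exact hx

end Cls

section Sel

variable {R : Type*} [CommRing R] [IsRegularLocalRing R]

lemma ne_top_of_regular (I : Ideal R) [IsRegularLocalRing (R ⧸ I)] : I ≤ maximalIdeal R :=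
  le_maximalIdeal fun h => by
    have : Subsingleton (R ⧸ I) := Ideal.Quotient.subsingleton_iff.2 h
    exact not_subsingleton (R ⧸ I) this

/-- `I ∩ 𝔪² ⊆ 𝔪 I` if `R` and `R/I` are regular. -/
lemma inf_sq_le (I : Ideal R) [IsRegularLocalRing (R ⧸ I)] :
    I ⊓ maximalIdeal R ^ 2 ≤ maximalIdeal R * I := by
  obtain ⟨d, hd⟩ := Groth.Agent.CalgA.RegBasic.ringKrullDim_eq_natCast R
  obtain ⟨x, c, hc, hx, hI⟩ := Groth.Agent.CalgA.RegBasic.exists_generators_of_quotient d hd I
  have hd' : Module.finrank (ResidueField R) (CotangentSpace R) = d := by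
    have := (IsRegularLocalRing.iff_finrank_cotangentSpace R).1 inferInstance
    rw [hd] at this
    exact_mod_cast this
  have hli := linearIndependent_of_span_eq x hx hd'
  have hli' : LinearIndependent (ResidueField R) (cls ∘ fun i : Fin c => x (Fin.castLE hc i)) :=
    hli.comp _ (Fin.castLE_injective hc)
  have hm : ∀ i, x i ∈ maximalIdeal R := fun i => hx ▸ Ideal.subset_span ⟨i, rfl⟩
  rintro t ⟨ht, ht2⟩
  rw [SetLike.mem_coe, hI, Ideal.mem_span_range_iff_exists_fun] at ht
  obtain ⟨a, rfl⟩ := ht
  have h := coeff_mem (fun i => hm _) hli' a ht2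
  exact Ideal.sum_mem _ fun i _ => Ideal.mul_mem_mul (h i) (hI ▸ Ideal.subset_span ⟨i, rfl⟩)

/-- A family of elements of `I` whose classes form a basis of the image of `I` in the cotangent
space is a regular sequence generating `I`, if `R/I` is regular. -/
theorem sel (I : Ideal R) [IsRegularLocalRing (R ⧸ I)] {n : ℕ} (f : Fin n → R) (hf : ∀ i, f i ∈ I)
    (hind : LinearIndependent (ResidueField R) (cls ∘ f))
    (hsp : ∀ x ∈ I, cls x ∈ Submodule.span (ResidueField R) (Set.range (cls ∘ f))) :
    RingTheory.Sequence.IsWeaklyRegular R (List.ofFn f) ∧ Ideal.span (Set.range f) = I := by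
  have hIm := ne_top_of_regular I
  refine ⟨(K69.RegPar.isRegular_of_independent f (fun i => hIm (hf i))
    (fun c hc => coeff_mem (fun i => hIm (hf i)) hind c hc)).2.toIsWeaklyRegular, ?_⟩
  have hle : Ideal.span (Set.range f) ≤ I := by
    rw [Ideal.span_le]
    rintro _ ⟨i, rfl⟩
    exact hf i
  refine le_antisymm hle ?_
  refine Submodule.le_of_le_smul_of_le_jacobson_bot (I := maximalIdeal R)
      (IsNoetherian.noetherian _) (by rw [jacobson_eq_maximalIdeal]; exact bot_ne_top) ?_
  intro x hx
  have h1 := hsp x hx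
  rw [Submodule.mem_span_range_iff_exists_fun] at h1
  obtain ⟨c, hc⟩ := h1
  choose c' hc' using fun i => residue_surjective (c i)
  have h2 : ∑ i, c' i * f i ∈ Ideal.span (Set.range f) :=
    Ideal.sum_mem _ fun i _ => Ideal.mul_mem_left _ _ (Ideal.subset_span ⟨i, rfl⟩)
  have h3 : x - ∑ i, c' i * f i ∈ maximalIdeal R ^ 2 := by
    rw [← cls_eq_zero_iff (sub_mem (hIm hx) (hIm (hle h2))), cls_sub (hIm hx) (hIm (hle h2)),
      cls_sum _ _ _ (fun i => hIm (hf i)), ← hc, sub_eq_zero]
    refine Finset.sum_congr rfl fun i _ => ?_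
    rw [hc']
    rfl
  have h4 : x - ∑ i, c' i * f i ∈ maximalIdeal R * I :=
    inf_sq_le I ⟨sub_mem hx (hle h2), h3⟩
  have h5 : x = ∑ i, c' i * f i + (x - ∑ i, c' i * f i) := by ring
  rw [h5]
  exact Submodule.add_mem_sup h2 h4

end Sel

section Lin

variable {K V : Type*} [Field K] [AddCommGroup V] [Module K V]

/-- Choosing a finite basis out of a spanning family. -/
lemma exists_family [FiniteDimensional K V] {ι : Type*} (v : ι → V) :
    ∃ (n : ℕ) (a : Fin n → ι), LinearIndependent K (v ∘ a) ∧
      Submodule.span K (Set.range (v ∘ a)) = Submodule.span K (Set.range v) := by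
  obtain ⟨κ, a, -, h1, h2⟩ := exists_linearIndependent' K v
  have hfin : Finite κ := h2.finite
  obtain ⟨n, ⟨e⟩⟩ := Finite.exists_equiv_fin κ
  refine ⟨n, a ∘ e.symm, ?_, ?_⟩
  · exact (linearIndependent_equiv e.symm).2 h2
  · rw [← h1, ← Function.comp_assoc, e.symm.surjective.range_comp]

/-- Thinning out a list. -/
lemma exists_split {α : Type*} (v : α → V) (l : List α) :
    ∃ w z : List α, l.Perm (w ++ z) ∧ LinearIndependent K (fun i : Fin z.length => v (z.get i)) ∧
      ∀ x ∈ l, v x ∈ Submodule.span K (Set.range (fun i : Fin z.length => v (z.get i))) := by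
  induction l with
  | nil =>
    have : IsEmpty (Fin ([] : List α).length) := inferInstanceAs (IsEmpty (Fin 0))
    exact ⟨[], [], List.Perm.refl _, linearIndependent_empty_type, fun x hx => by simp at hx⟩
  | cons a l ih =>
    obtain ⟨w, z, h1, h2, h3⟩ := ih
    by_cases ha : v a ∈ Submodule.span K (Set.range (fun i : Fin z.length => v (z.get i)))
    · refine ⟨a :: w, z, h1.cons a, h2, ?_⟩
      intro x hx
      rcases List.mem_cons.1 hx with rfl | hx
      · exact ha
      · exact h3 x hx
    · have hcons : (fun i : Fin (a :: z).length => v ((a :: z).get i)) =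
          Fin.cons (v a) (fun i : Fin z.length => v (z.get i)) := by
        funext i
        refine Fin.cases rfl (fun i => rfl) i
      refine ⟨w, a :: z, (h1.cons a).trans List.perm_middle.symm, ?_, ?_⟩
      · rw [hcons]
        exact linearIndependent_finCons.2 ⟨h2, ha⟩
      · rw [hcons, Fin.range_cons]
        intro x hx
        rcases List.mem_cons.1 hx with rfl | hx
        · exact Submodule.subset_span (Set.mem_insert _ _)
        · exact Submodule.span_mono (Set.subset_insert _ _) (h3 x hx)

end Lin

end K84.RegSel
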