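import Groth.Agent.DTen.K84.ConBasis
import Groth.Agent.DTen.K84.KerRank
import Mathlib.RingTheory.Flat.Localization
import Mathlib.LinearAlgebra.TensorProduct.Prod
import Mathlib.RingTheory.Localization.BaseChange

/-!
# The localization of the exterior power of the excess conormal module
-/

set_option autoImplicit false

universe u

open IsLocalRing TensorProduct

namespace K84.Rhs

open K84.Data

/-- The localization of a restricted module. -/
theorem nonempty_localized {A B : Type*} (C : Type*) [CommRing A] [CommRing B] [CommRing C] [Algebra A B]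
    [Algebra A C] [Algebra B C] [IsScalarTower A B C] (M : Submonoid A)
    [IsLocalization (Algebra.algebraMapSubmonoid B M) C] (E : Type*) [AddCommGroup E] [Module B E]
    [Module A E] [IsScalarTower A B E] :
    Nonempty (LocalizedModule M E ≃ₗ[A] C ⊗[B] E) := by
  let f : E →ₗ[B] C ⊗[B] E := TensorProduct.mk B C E 1
  have h : IsLocalizedModule (Algebra.algebraMapSubmonoid B M) f :=
    (isLocalizedModule_iff_isBaseChange _ C f).2 (TensorProduct.isBaseChange B E C)
  have h2 := IsLocalizedModule.restrictScalars M f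
  exact ⟨IsLocalizedModule.iso M (f.restrictScalars A)⟩

/-- The localization of a restricted module. -/
theorem nonempty_localized' {A B : Type*} (C : Type*) [CommRing A] [CommRing B] [CommRing C] [Algebra A B]
    [Algebra A C] [Algebra B C] [IsScalarTower A B C] (M : Submonoid A)
    [IsLocalization (Algebra.algebraMapSubmonoid B M) C] (E : Type*) [AddCommGroup E] [Module B E] :
    Nonempty (LocalizedModule M (RestrictScalars A B E) ≃ₗ[A] C ⊗[B] E) := by
  let _ : Module A E := Module.compHom E (algebraMap A B)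
  have : IsScalarTower A B E := IsScalarTower.of_compHom A B E
  exact nonempty_localized C M E

/-- The localization of the exterior power of a kernel. -/
theorem nonempty_localized_ext {A B : Type*} (C : Type*) [CommRing A] [CommRing B] [CommRing C] [Algebra A B]
    [Algebra A C] [Algebra B C] [IsScalarTower A B C] (M : Submonoid A)
    [IsLocalization (Algebra.algebraMapSubmonoid B M) C]
    {P Q : Type*} [AddCommGroup P] [Module B P] [AddCommGroup Q] [Module B Q]
    (g : P →ₗ[B] Q) (q m : ℕ) (h : Nontrivial C → ∃ (N n : ℕ), IsLocalRing C ∧ Function.Surjective g ∧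
      N = m + n ∧ Nonempty (Module.Basis (Fin N) C (C ⊗[B] P)) ∧
      Nonempty (Module.Basis (Fin n) C (C ⊗[B] Q))) :
    Nonempty (LocalizedModule M (RestrictScalars A B
      ↥(ExteriorAlgebra.exteriorPower B q ↥(LinearMap.ker g))) ≃ₗ[A] (Fin (m.choose q) → C)) := by
  obtain ⟨e⟩ := nonempty_localized' (A := A) (B := B) C M
    ↥(ExteriorAlgebra.exteriorPower B q ↥(LinearMap.ker g))
  rcases subsingleton_or_nontrivial C with hsub | hnt
  · have h1 : Subsingleton (C ⊗[B] ↥(ExteriorAlgebra.exteriorPower B q ↥(LinearMap.ker g))) :=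
      Module.subsingleton C _
    let z : (C ⊗[B] ↥(ExteriorAlgebra.exteriorPower B q ↥(LinearMap.ker g))) ≃ₗ[A]
      (Fin (m.choose q) → C) := 0
    exact ⟨e.trans z⟩
  · obtain ⟨N, n, hloc, hg, hN, ⟨bP⟩, ⟨bQ⟩⟩ := h hnt
    have hflat : Module.Flat B C := IsLocalization.flat C (Algebra.algebraMapSubmonoid B M)
    obtain ⟨e'⟩ := K84.KerRank.nonempty_ext (C := C) g hg hN bP bQ q
    exact ⟨e.trans (e'.restrictScalars A)⟩

variable {A : Type u} [CommRing A] (p : Ideal A) [p.IsPrime]

/-- The main computation. -/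
theorem nonempty_rhs (J₁ J₂ J₃ J : Ideal A) (hJ : J = J₁ ⊔ J₂ ⊔ J₃)
    (S : (↥J₁ × (↥J₂ × ↥J₃)) →ₗ[A] ↥J) (hS : ∀ x, (S x : A) = (x.1 : A) + (x.2.1 : A) + (x.2.2 : A))
    {l₁ l₂ l₃ w z : List A} (h₁ : GoodList p J₁ l₁) (h₂ : GoodList p J₂ l₂) (h₃ : GoodList p J₃ l₃)
    (h : GoodList p J z) (hperm : (l₁ ++ (l₂ ++ l₃)).Perm (w ++ z)) (q : ℕ)
    (B C : Type u) [CommRing B] [CommRing C] [Algebra A B] [Algebra A C] [Algebra B C]
    [IsScalarTower A B C] [Algebra (Localization.AtPrime p) C]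
    [IsScalarTower A (Localization.AtPrime p) C]
    [IsLocalization (Algebra.algebraMapSubmonoid B p.primeCompl) C]
    (h0 : ∀ x ∈ J, algebraMap A C x = 0) (hloc : Nontrivial C → IsLocalRing C) :
    Nonempty (LocalizedModule p.primeCompl
          (RestrictScalars A B
            ↥(ExteriorAlgebra.exteriorPower B q ↥(LinearMap.ker (S.baseChange B)))) ≃ₗ[A]
      (Fin (w.length.choose q) → C)) := by
  refine nonempty_localized_ext C p.primeCompl (S.baseChange B) q w.length (fun hnt => ?_)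
  · have hloc : IsLocalRing C := hloc hnt
    have hle₁ : J₁ ≤ J := hJ ▸ le_sup_left.trans le_sup_left
    have hle₂ : J₂ ≤ J := hJ ▸ le_sup_right.trans le_sup_left
    have hle₃ : J₃ ≤ J := hJ ▸ le_sup_right
    have hsurj : Function.Surjective S := by
      rintro ⟨y, hy⟩
      have hy2 := hy
      rw [hJ] at hy2
      obtain ⟨y', hy3, y₃, hy₃, rfl⟩ := Submodule.mem_sup.1 hy2
      obtain ⟨y₁, hy₁, y₂, hy₂, rfl⟩ := Submodule.mem_sup.1 hy3
      refine ⟨(⟨y₁, hy₁⟩, (⟨y₂, hy₂⟩, ⟨y₃, hy₃⟩)), ?_⟩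
      ext
      rw [hS]
    obtain ⟨b₁⟩ := K84.ConBasis.nonempty_basis p h₁ C (fun x hx => h0 x (hle₁ hx))
    obtain ⟨b₂⟩ := K84.ConBasis.nonempty_basis p h₂ C (fun x hx => h0 x (hle₂ hx))
    obtain ⟨b₃⟩ := K84.ConBasis.nonempty_basis p h₃ C (fun x hx => h0 x (hle₃ hx))
    obtain ⟨b⟩ := K84.ConBasis.nonempty_basis p h C h0
    let eQ : C ⊗[B] (B ⊗[A] J) ≃ₗ[C] C ⊗[A] J :=
      AlgebraTensorModule.cancelBaseChange A B C C J
    let eP : C ⊗[B] (B ⊗[A] (J₁ × (J₂ × J₃))) ≃ₗ[C] C ⊗[A] (J₁ × (J₂ × J₃)) :=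
      AlgebraTensorModule.cancelBaseChange A B C C (J₁ × (J₂ × J₃))
    let eP' : C ⊗[A] (J₁ × (J₂ × J₃)) ≃ₗ[C] ((C ⊗[A] J₁) × ((C ⊗[A] J₂) × (C ⊗[A] J₃))) :=
      (TensorProduct.prodRight A C C J₁ (J₂ × J₃)).trans
        ((LinearEquiv.refl _ _).prodCongr (TensorProduct.prodRight A C C J₂ J₃))
    let N := l₁.length + (l₂.length + l₃.length)
    let ix : Fin l₁.length ⊕ (Fin l₂.length ⊕ Fin l₃.length) ≃ Fin N :=
      ((Equiv.refl _).sumCongr finSumFinEquiv).trans finSumFinEquiv
    let bP := ((b₁.prod (b₂.prod b₃)).map (eP.trans eP').symm).reindex ix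
    let bQ := b.map eQ.symm
    have hN : N = w.length + z.length := by
      have := hperm.length_eq
      rw [List.length_append, List.length_append, List.length_append] at this
      exact this
    exact ⟨N, z.length, hloc, LinearMap.lTensor_surjective _ hsurj, hN, ⟨bP⟩, ⟨bQ⟩⟩

/-- The map `A/J → A_p/J A_p`. -/
noncomputable def toQL (J : Ideal A) : A ⧸ J →+*
    (Localization.AtPrime p ⧸ J.map (algebraMap A (Localization.AtPrime p))) :=
  Ideal.Quotient.lift J ((Ideal.Quotient.mk _).comp (algebraMap A (Localization.AtPrime p)))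
    fun a ha => by
      rw [RingHom.comp_apply, Ideal.Quotient.eq_zero_iff_mem]
      exact Ideal.mem_map_of_mem _ ha

theorem nonempty_rhs' (J₁ J₂ J₃ J : Ideal A) (hJ : J = J₁ ⊔ J₂ ⊔ J₃)
    (S : (↥J₁ × (↥J₂ × ↥J₃)) →ₗ[A] ↥J) (hS : ∀ x, (S x : A) = (x.1 : A) + (x.2.1 : A) + (x.2.2 : A))
    {l₁ l₂ l₃ w z : List A} (h₁ : GoodList p J₁ l₁) (h₂ : GoodList p J₂ l₂) (h₃ : GoodList p J₃ l₃)
    (h : GoodList p J z) (hperm : (l₁ ++ (l₂ ++ l₃)).Perm (w ++ z)) (q : ℕ) :
    Nonempty (LocalizedModule p.primeCompl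
          (RestrictScalars A (A ⧸ J)
            ↥(ExteriorAlgebra.exteriorPower (A ⧸ J) q ↥(LinearMap.ker (S.baseChange (A ⧸ J))))) ≃ₗ[A]
      (Fin (w.length.choose q) →
        (Localization.AtPrime p ⧸ J.map (algebraMap A (Localization.AtPrime p))))) := by
  let _ : Algebra (A ⧸ J)
    (Localization.AtPrime p ⧸ J.map (algebraMap A (Localization.AtPrime p))) := (toQL p J).toAlgebra
  have : IsScalarTower A (A ⧸ J)
    (Localization.AtPrime p ⧸ J.map (algebraMap A (Localization.AtPrime p))) :=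
    IsScalarTower.of_algebraMap_eq fun a => rfl
  have : IsLocalization (Algebra.algebraMapSubmonoid (A ⧸ J) p.primeCompl)
    (Localization.AtPrime p ⧸ J.map (algebraMap A (Localization.AtPrime p))) :=
    IsLocalization.of_surjective p.primeCompl (Localization.AtPrime p) (Ideal.Quotient.mk J)
    Ideal.Quotient.mk_surjective (Ideal.Quotient.mk (J.map (algebraMap A (Localization.AtPrime p))))
    Ideal.Quotient.mk_surjective rfl (by rw [Ideal.mk_ker, Ideal.mk_ker])
  refine nonempty_rhs p J₁ J₂ J₃ J hJ S hS h₁ h₂ h₃ h hperm q (A ⧸ J)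
    (Localization.AtPrime p ⧸ J.map (algebraMap A (Localization.AtPrime p))) ?_ ?_
  · intro x hx
    exact Ideal.Quotient.eq_zero_iff_mem.2 (Ideal.mem_map_of_mem _ hx)
  · intro _
    exact IsLocalRing.of_surjective' (Ideal.Quotient.mk _) Ideal.Quotient.mk_surjective

end K84.Rhs
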