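import Groth.Agent.DTen.K84.KosTen

/-!
# The homology of the derived triple tensor product of three modules after a flat base extension
-/

set_option autoImplicit false

universe u

open CategoryTheory CategoryTheory.Limits MonoidalCategory DTen

attribute [local instance] HasDerivedCategory.standard

namespace K84.Tor3

open DerivedCategory K786.Good
open Groth.Agent.Flat2H.KoszulBasic Groth.Agent.Flat2H.KoszulReg

variable {A : Type u} [CommRing A]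

/-- The triple derived tensor product is computed by K-projective resolutions. -/
theorem nonempty_HD [HasLTen₃ A] {M₁ M₂ M₃ : ModuleCat.{u} A} {P₁ P₂ P₃ : DRing.Cx A}
    [P₁.IsKProjective] [P₂.IsKProjective] [P₃.IsKProjective]
    (p₁ : P₁ ⟶ sgl M₁) (hp₁ : QuasiIso p₁) (p₂ : P₂ ⟶ sgl M₂) (hp₂ : QuasiIso p₂)
    (p₃ : P₃ ⟶ sgl M₃) (hp₃ : QuasiIso p₃) (i : ℤ) :
    Nonempty ((Dual.HD A ((LTen₃ A).obj ((DerivedCategory.singleFunctor (ModuleCat.{u} A) 0).obj M₁,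
      ((DerivedCategory.singleFunctor (ModuleCat.{u} A) 0).obj M₂,
        (DerivedCategory.singleFunctor (ModuleCat.{u} A) 0).obj M₃))) i) ≃ₗ[A]
      ((P₁ ⊗ (P₂ ⊗ P₃) : DRing.Cx A).homology i)) := by
  let e (M : ModuleCat.{u} A) (P : DRing.Cx A) (p : P ⟶ sgl M) (hp : QuasiIso p) :
      (DerivedCategory.singleFunctor (ModuleCat.{u} A) 0).obj M ≅ Q.obj P :=
    (DerivedCategory.singleFunctorIsoCompQ (ModuleCat.{u} A) 0).app M ≪≫ (asIso (Q.map p)).symm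
  let e3 := (LTen₃ A).mapIso (Iso.prod (e M₁ P₁ p₁ hp₁) (Iso.prod (e M₂ P₂ p₂ hp₂) (e M₃ P₃ p₃ hp₃)))
  let e4 : (LTen₃ A).obj (Q.obj P₁, (Q.obj P₂, Q.obj P₃)) ≅ Q.obj (P₁ ⊗ (P₂ ⊗ P₃) : DRing.Cx A) :=
    asIso ((ε₃ A).app (P₁, (P₂, P₃)))
  exact ⟨((DerivedCategory.homologyFunctor (ModuleCat.{u} A) i).mapIso (e3 ≪≫ e4) ≪≫
    (DerivedCategory.homologyFunctorFactors (ModuleCat.{u} A) i).app _).toLinearEquiv⟩

/-- The homology of the triple derived tensor product, after a flat extension of scalars. -/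
theorem nonempty_tensor_HD [HasLTen₃ A] (N M₁ M₂ M₃ : ModuleCat.{u} A) [Module.Flat A N]
    {l₁ l₂ l₃ w z : List A}
    (hl₁ : KReg l₁ N) (hl₂ : KReg l₂ N) (hl₃ : KReg l₃ N)
    (e₁ : Nonempty ((N ⧸ (Ideal.ofList l₁ • ⊤ : Submodule A N)) ≃ₗ[A] (TensorProduct A N M₁)))
    (e₂ : Nonempty ((N ⧸ (Ideal.ofList l₂ • ⊤ : Submodule A N)) ≃ₗ[A] (TensorProduct A N M₂)))
    (e₃ : Nonempty ((N ⧸ (Ideal.ofList l₃ • ⊤ : Submodule A N)) ≃ₗ[A] (TensorProduct A N M₃)))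
    (hperm : (l₁ ++ (l₂ ++ l₃)).Perm (w ++ z)) (hz : KReg z N)
    (hw : ∀ y ∈ w, ∀ x : N, y • x ∈ (Ideal.ofList z • ⊤ : Submodule A N)) (q : ℕ) :
    Nonempty ((TensorProduct A N (Dual.HD A ((LTen₃ A).obj
      ((DerivedCategory.singleFunctor (ModuleCat.{u} A) 0).obj M₁,
      ((DerivedCategory.singleFunctor (ModuleCat.{u} A) 0).obj M₂,
        (DerivedCategory.singleFunctor (ModuleCat.{u} A) 0).obj M₃))) (-(q : ℤ)))) ≃ₗ[A]
      (Fin (w.length.choose q) → (N ⧸ (Ideal.ofList z • ⊤ : Submodule A N)))) := by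
  obtain ⟨P₁, p₁, hP₁, hp₁⟩ := Groth.Agent.LoccohB.KDer.enoughKProjectives_moduleCat A (sgl M₁)
  obtain ⟨P₂, p₂, hP₂, hp₂⟩ := Groth.Agent.LoccohB.KDer.enoughKProjectives_moduleCat A (sgl M₂)
  obtain ⟨P₃, p₃, hP₃, hp₃⟩ := Groth.Agent.LoccohB.KDer.enoughKProjectives_moduleCat A (sgl M₃)
  obtain ⟨f⟩ := nonempty_HD p₁ hp₁ p₂ hp₂ p₃ hp₃ (-(q : ℤ))
  obtain ⟨g⟩ := K84.KosTen.nonempty_homology_triple hl₁ hl₂ hl₃ e₁ e₂ e₃ p₁ hp₁ p₂ hp₂ p₃ hp₃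
    (isKFlat_of_isKProjective P₂) (isKFlat_of_isKProjective P₃) hperm hz hw q
  exact ⟨(TensorProduct.congr (LinearEquiv.refl A N) f).trans g⟩

end K84.Tor3
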